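import Cfsg.Agent.Helper19.SU3.AutCenter

set_option autoImplicit false
set_option linter.unusedSectionVars false

/-!
For `q = 4`: an additive isometry of order dividing `3` of the norm form on the field with `16`
elements is trivial; hence two involutive automorphisms of `Heis bar` whose product has order
dividing `3` have trivial product (no `S₃` inside `Aut (Heis bar)`).
-/

namespace Cfsg.Agent.Helper19.SU3

namespace Quad

variable {F : Type*} [Field F] [Fintype F] {bar : F →+* F} [BarField F bar]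

/-- there are exactly five elements of norm one when `|F| = 16` -/
theorem card_norm_one (hF : Fintype.card F = 16) (hbar : ∀ x, bar x = x ^ 4) :
    Nat.card {u : F // nm bar u = 1} = 5 := by
  classical
  have hnm : ∀ u : F, nm bar u = u ^ 5 := by
    intro u; rw [nm, hbar]; ring
  have h1 : Nat.card (powMonoidHom (α := Fˣ) 5).ker = (Nat.card Fˣ).gcd 5 :=
    IsCyclic.card_powMonoidHom_ker (G := Fˣ) 5
  have h2 : Nat.card Fˣ = 15 := by
    rw [Nat.card_eq_fintype_card, Fintype.card_units, hF]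
  rw [h2] at h1
  rw [show Nat.gcd 15 5 = 5 from rfl] at h1
  rw [← h1]
  refine Nat.card_congr ⟨fun u => ⟨Units.mk0 u.1 ?_, ?_⟩, fun v => ⟨v.1.1, ?_⟩, ?_, ?_⟩
  · intro h0
    have := u.2
    rw [h0, nm, zero_mul] at this
    exact zero_ne_one this
  · rw [MonoidHom.mem_ker, powMonoidHom_apply]
    apply Units.ext
    rw [Units.val_pow_eq_pow_val, Units.val_mk0, ← hnm, u.2, Units.val_one]
  · have := v.2
    rw [MonoidHom.mem_ker, powMonoidHom_apply] at this
    have h3 := congrArg Units.val this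
    rw [Units.val_pow_eq_pow_val, Units.val_one] at h3
    rw [hnm, h3]
  · intro u; rfl
  · intro v; apply Subtype.ext; apply Units.ext; rfl

/-- an isometry of order dividing three has a nonzero fixed point -/
theorem exists_fixed (hF : Fintype.card F = 16) (hbar : ∀ x, bar x = x ^ 4) (A : F →+ F)
    (hA3 : ∀ a, A (A (A a)) = a) (hN : ∀ a, nm bar (A a) = nm bar a) :
    ∃ u : F, u ≠ 0 ∧ A u = u := by
  classical
  let X := {u : F // nm bar u = 1}
  let f : Function.End X := fun u => ⟨A u.1, by rw [hN, u.2]⟩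
  have hf : f ^ 3 ^ 1 = 1 := by
    funext u
    apply Subtype.ext
    show A (A (A u.1)) = u.1
    exact hA3 _
  have : Fact (Nat.Prime 3) := ⟨Nat.prime_three⟩
  have h1 := Equiv.Perm.card_fixedPoints_modEq (p := 3) (n := 1) hf
  have h2 : Fintype.card X = 5 := by
    rw [← Nat.card_eq_fintype_card]; exact card_norm_one hF hbar
  rw [h2] at h1
  have h3 : Fintype.card (Function.fixedPoints f) ≠ 0 := by
    intro h0
    rw [h0] at h1
    exact absurd h1 (by decide)
  obtain ⟨⟨u, hu⟩⟩ := Fintype.card_pos_iff.mp (Nat.pos_of_ne_zero h3)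
  refine ⟨u.1, ?_, congrArg Subtype.val hu⟩
  intro h0
  have := u.2
  rw [h0, nm_zero] at this
  exact zero_ne_one this

omit [Fintype F] in
theorem div_fixed_of_tf_eq_zero {u w : F} (hu : u ≠ 0) (h : tf bar u w = 0) :
    bar (w / u) = w / u := by
  have hu' : bar u ≠ 0 := by rwa [Ne, map_eq_zero]
  rw [map_div₀, div_eq_div_iff hu' hu]
  have h2 := Heis.char2 bar (w * bar u)
  rw [tf] at h
  linear_combination h - h2

omit [Fintype F] in
theorem tf_comm (a b : F) : tf bar a b = tf bar b a := by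
  rw [tf, tf, add_comm]

/-- an additive isometry of order dividing three of the norm form on the field with sixteen
elements is trivial -/
theorem isom_three (hF : Fintype.card F = 16) (hbar : ∀ x, bar x = x ^ 4)
    (hω : ∃ ω : F, bar ω ≠ ω) (A : F →+ F)
    (hA3 : ∀ a, A (A (A a)) = a) (hN : ∀ a, nm bar (A a) = nm bar a) : ∀ a, A a = a := by
  by_contra hcon
  push Not at hcon
  obtain ⟨a₀, ha₀⟩ := hcon
  have hpol : ∀ a a', tf bar (A a) (A a') = tf bar a a' := by
    intro a a'
    have h1 := hN (a + a')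
    rw [map_add, nm_add, nm_add, hN, hN] at h1
    exact add_left_cancel h1
  have horth : ∀ u, A u = u → ∀ v, tf bar u (v + A v) = 0 := by
    intro u hu v
    rw [tf_add_right]
    nth_rewrite 2 [← hu]
    rw [hpol]
    exact Heis.char2 bar _
  obtain ⟨u, hu0, hu⟩ := exists_fixed hF hbar A hA3 hN
  set w := a₀ + A a₀ with hw
  have hw0 : w ≠ 0 := by
    intro h0
    apply ha₀
    have := Heis.char2 bar a₀
    linear_combination h0 - this
  have hwu : bar (w / u) = w / u := div_fixed_of_tf_eq_zero hu0 (horth u hu a₀)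
  obtain ⟨ω, hω⟩ := hω
  apply hω
  -- every element is an `F₀`-multiple of `u`
  have hall : ∀ a : F, bar (a / u) = a / u := by
    intro a
    have hdec : a = (a + A a + A (A a)) + (A a + A (A a)) := by
      have := Heis.char2 bar (A a + A (A a))
      linear_combination -this
    have hfix : A (a + A a + A (A a)) = a + A a + A (A a) := by
      rw [map_add, map_add, hA3]; ring
    have h1 : bar ((a + A a + A (A a)) / u) = (a + A a + A (A a)) / u := by
      have h2 : tf bar w (a + A a + A (A a)) = 0 := by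
        rw [tf_comm]; exact horth _ hfix a₀
      have h3 := div_fixed_of_tf_eq_zero hw0 h2
      have : (a + A a + A (A a)) / u = ((a + A a + A (A a)) / w) * (w / u) := by
        field_simp
      rw [this, map_mul, h3, hwu]
    have h2 : bar ((A a + A (A a)) / u) = (A a + A (A a)) / u :=
      div_fixed_of_tf_eq_zero hu0 (horth u hu (A a))
    rw [hdec, add_div, map_add, h1, h2]
  have := hall (ω * u)
  rwa [mul_div_assoc, div_self hu0, mul_one] at this

end Quad

namespace Heis

variable {F : Type*} [Field F] [Fintype F] {bar : F →+* F} [BarField F bar]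

/-- the additive map induced on `F` by an automorphism -/
theorem exists_induced (hω : ∃ ω : F, bar ω ≠ ω) (hTr : ∀ c : F, bar c = c → ∃ b, b + bar b = c)
    (ψ : Heis bar ≃* Heis bar) : ∃ A : F →+ F, ∀ x : Heis bar, (ψ x).a = A x.a := by
  have hcen : ∀ x : Heis bar, x.a = 0 → (ψ x).a = 0 := by
    intro x hx
    rw [← mem_center_iff hω hTr] at hx ⊢
    exact (HeisLike.mem_center_congr ψ x).mpr hx
  have hwd : ∀ x y : Heis bar, x.a = y.a → (ψ x).a = (ψ y).a := by
    intro x y hxy
    have h1 : (x⁻¹ * y).a = 0 := by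
      rw [mul_a, inv_a, hxy]; exact char2 bar _
    have h2 := hcen _ h1
    rw [map_mul, map_inv, mul_a, inv_a] at h2
    have := char2 bar (ψ y).a
    linear_combination h2 - this
  choose s hs using fun a : F => exists_a (bar := bar) hTr a
  refine ⟨{ toFun := fun a => (ψ (s a)).a
            map_zero' := ?_
            map_add' := fun a a' => ?_ }, fun x => hwd x (s x.a) (hs _).symm⟩
  · have : (ψ (s 0)).a = (ψ 1).a := hwd _ _ (by rw [hs]; rfl)
    rw [this, map_one]; rfl
  · have : (ψ (s (a + a'))).a = (ψ (s a * s a')).a := hwd _ _ (by rw [hs, mul_a, hs, hs])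
    rw [this, map_mul, mul_a]

/-- two involutive automorphisms of `Heis bar`, `q = 4`, whose product has order dividing three have
trivial product -/
theorem no_S3 (hF : Fintype.card F = 16) (hbar : ∀ x, bar x = x ^ 4)
    (hω : ∃ ω : F, bar ω ≠ ω) (hTr : ∀ c : F, bar c = c → ∃ b, b + bar b = c)
    (ψ₁ ψ₂ : Heis bar ≃* Heis bar) (h1 : ∀ x, ψ₁ (ψ₁ x) = x) (h2 : ∀ x, ψ₂ (ψ₂ x) = x)
    (h3 : ∀ x, ψ₁ (ψ₂ (ψ₁ (ψ₂ (ψ₁ (ψ₂ x))))) = x) : ∀ x, ψ₁ (ψ₂ x) = x := by
  have hc1 := aut_center hω hTr ψ₁ 1 (fun x => by rw [h1]; simp)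
  have hc2 := aut_center hω hTr ψ₂ 1 (fun x => by rw [h2]; simp)
  let ρ : Heis bar ≃* Heis bar := ψ₂.trans ψ₁
  have hρ : ∀ x, ρ x = ψ₁ (ψ₂ x) := fun x => rfl
  have hρZ : ∀ z : Heis bar, z.a = 0 → ρ z = z := by
    intro z hz
    have hzc : z ∈ Subgroup.center (Heis bar) := (mem_center_iff hω hTr z).mpr hz
    rw [hρ, hc2 z hzc, hc1 z hzc]
  obtain ⟨A, hA⟩ := exists_induced hω hTr ρ
  obtain ⟨s, hs⟩ : ∃ s : F → Heis bar, ∀ a, (s a).a = a :=
    ⟨fun a => (exists_a (bar := bar) hTr a).choose, fun a => (exists_a (bar := bar) hTr a).choose_spec⟩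
  have hA3 : ∀ a, A (A (A a)) = a := by
    intro a
    have : A (A (A a)) = (ρ (ρ (ρ (s a)))).a := by
      rw [hA, hA, hA, hs]
    rw [this, hρ, hρ, hρ, h3, hs]
  have hN : ∀ a, Quad.nm bar (A a) = Quad.nm bar a := by
    intro a
    have hz : (s a * s a).a = 0 := sq_a _
    have h4 := hρZ _ hz
    have h5 := congrArg Heis.b h4
    rw [map_mul, sq_b, sq_b, hA, hs] at h5
    exact h5
  have hAid := Quad.isom_three hF hbar hω A hA3 hN
  -- `ρ x = x * z`, `z` central
  have hρa : ∀ x, (ρ x).a = x.a := fun x => by rw [hA, hAid]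
  have hρ2 : ∀ x, ρ (ρ x) = x := by
    intro x
    have hza : (x⁻¹ * ρ x).a = 0 := by
      rw [mul_a, inv_a, hρa]; exact char2 bar _
    have hz := hρZ _ hza
    rw [map_mul, map_inv] at hz
    -- (ρ x)⁻¹ * ρ (ρ x) = x⁻¹ * ρ x, and x⁻¹ * ρ x is central of order two
    have hzc : (x⁻¹ * ρ x) ∈ Subgroup.center (Heis bar) := (mem_center_iff hω hTr _).mpr hza
    have hsq : (x⁻¹ * ρ x) * (x⁻¹ * ρ x) = 1 := by
      rw [eq_one_iff, sq_a, sq_b, hza]
      simp
    have h6 : ρ (ρ x) = ρ x * (x⁻¹ * ρ x) := by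
      rw [← hz, mul_inv_cancel_left]
    rw [h6]
    calc ρ x * (x⁻¹ * ρ x) = x * (x⁻¹ * ρ x * (x⁻¹ * ρ x)) := by group
      _ = x := by rw [hsq, mul_one]
  intro x
  have h7 : ρ (ρ (ρ x)) = x := by
    rw [hρ, hρ, hρ]; exact h3 x
  rw [hρ2] at h7
  exact h7

end Heis

end Cfsg.Agent.Helper19.SU3
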