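import Cfsg.Agent.Helper19.SU3.Quad

set_option autoImplicit false
set_option linter.unusedSectionVars false

/-!
An automorphism of `Heis bar` whose square is inner acts trivially on the centre.
-/

namespace Cfsg.Agent.Helper19.SU3

namespace Heis

variable {F : Type*} [Field F] [Fintype F] {bar : F →+* F} [BarField F bar]

theorem sign_aux : ∀ u v : ZMod 2, (if u + v = 0 then (1 : ℤ) else -1) =
    (if u = 0 then 1 else -1) * (if v = 0 then 1 else -1) := by decide

theorem aut_center (hω : ∃ ω : F, bar ω ≠ ω) (hTr : ∀ c : F, bar c = c → ∃ b, b + bar b = c)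
    (ψ : Heis bar ≃* Heis bar) (h : Heis bar) (hψ : ∀ x, ψ (ψ x) = h * x * h⁻¹) :
    ∀ z ∈ Subgroup.center (Heis bar), ψ z = z := by
  classical
  by_contra hcon
  push Not at hcon
  obtain ⟨z₀, hz₀, hz₀ψ⟩ := hcon
  rw [mem_center_iff hω hTr] at hz₀
  -- the centre is preserved
  have hcen : ∀ x : Heis bar, x.a = 0 → (ψ x).a = 0 := by
    intro x hx
    rw [← mem_center_iff hω hTr] at hx ⊢
    exact (HeisLike.mem_center_congr ψ x).mpr hx
  have hwd : ∀ x y : Heis bar, x.a = y.a → (ψ x).a = (ψ y).a := by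
    intro x y hxy
    have h1 : (x⁻¹ * y).a = 0 := by
      rw [mul_a, inv_a, hxy]; exact char2 bar _
    have h2 := hcen _ h1
    rw [map_mul, map_inv, mul_a, inv_a] at h2
    have := char2 bar (ψ y).a
    linear_combination h2 - this
  choose s hs using fun a : F => exists_a (bar := bar) hTr a
  -- the induced additive map
  let A : F →+ F :=
    { toFun := fun a => (ψ (s a)).a
      map_zero' := by
        have : (ψ (s 0)).a = (ψ 1).a := hwd _ _ (by rw [hs]; rfl)
        rw [this, map_one]; rfl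
      map_add' := fun a a' => by
        have : (ψ (s (a + a'))).a = (ψ (s a * s a')).a := hwd _ _ (by rw [hs, mul_a, hs, hs])
        rw [this, map_mul, mul_a] }
  have hA : ∀ x : Heis bar, (ψ x).a = A x.a := fun x => hwd x (s x.a) (hs _).symm
  have hAA : ∀ a, A (A a) = a := by
    intro a
    have h1 : A (A a) = (ψ (ψ (s a))).a := by
      rw [hA (ψ (s a)), hA (s a), hs]
    rw [h1, hψ, mul_a, mul_a, inv_a, hs]
    have := char2 bar h.a
    linear_combination this
  have hψZ : ∀ z : Heis bar, z.a = 0 → ψ (ψ z) = z := by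
    intro z hz
    rw [hψ]
    have hzc : z ∈ Subgroup.center (Heis bar) := (mem_center_iff hω hTr z).mpr hz
    rw [Subgroup.mem_center_iff.mp hzc h, mul_inv_cancel_right]
  -- the fixed points in the centre
  let Z₀ : AddSubgroup F :=
    { carrier := {c | ∃ z : Heis bar, z.a = 0 ∧ z.b = c ∧ ψ z = z}
      zero_mem' := ⟨1, rfl, rfl, map_one ψ⟩
      add_mem' := by
        rintro c c' ⟨z, hz, rfl, hzψ⟩ ⟨z', hz', rfl, hzψ'⟩
        refine ⟨z * z', ?_, ?_, ?_⟩
        · rw [mul_a, hz, hz', add_zero]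
        · rw [mul_b, hz, zero_mul, add_zero]
        · rw [map_mul, hzψ, hzψ']
      neg_mem' := by
        rintro c ⟨z, hz, rfl, hzψ⟩
        refine ⟨z, hz, ?_, hzψ⟩
        have := char2 bar z.b
        linear_combination this }
  have hmemZ₀ : ∀ z : Heis bar, z.a = 0 → ψ z = z → z.b ∈ Z₀ := fun z hz hzψ => ⟨z, hz, rfl, hzψ⟩
  have hc₁ : z₀.b ∉ Z₀ := by
    rintro ⟨z, hz, hzb, hzψ⟩
    have : z = z₀ := Heis.ext (by rw [hz, hz₀]) hzb
    exact hz₀ψ (this ▸ hzψ)
  have hc₁fix : bar z₀.b = z₀.b := by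
    have := z₀.h
    rw [hz₀] at this
    exact fixed_of_add_eq_zero (by simpa using this)
  -- a linear functional
  have hchar : CharP F 2 :=
    CharTwo.of_one_ne_zero_of_two_eq_zero one_ne_zero (BarField.two bar)
  let _ : Algebra (ZMod 2) F := ZMod.algebra F 2
  obtain ⟨f, hf1, hf0⟩ := Submodule.exists_dual_map_eq_bot_of_notMem
    (p := AddSubgroup.toZModSubmodule 2 Z₀) (x := z₀.b) hc₁ inferInstance
  have hf0' : ∀ c ∈ Z₀, f c = 0 := by
    intro c hc
    have : f c ∈ (AddSubgroup.toZModSubmodule 2 Z₀).map f := Submodule.mem_map_of_mem hc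
    rw [hf0] at this
    exact this
  let ε : F → ℤ := fun x => if f x = 0 then 1 else -1
  have hε : Quad.IsSign ε := by
    refine ⟨fun x y => ?_, fun x => ?_⟩
    · show (if f (x + y) = 0 then (1 : ℤ) else -1) = _
      rw [map_add]
      exact sign_aux _ _
    · show (if f x = 0 then (1 : ℤ) else -1) * (if f x = 0 then (1 : ℤ) else -1) = 1
      split_ifs <;> norm_num
  have hεZ₀ : ∀ c ∈ Z₀, ε c = 1 := by
    intro c hc
    show (if f c = 0 then (1 : ℤ) else -1) = 1
    rw [if_pos (hf0' c hc)]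
  have hεc₁ : ε z₀.b = -1 := by
    show (if f z₀.b = 0 then (1 : ℤ) else -1) = -1
    rw [if_neg hf1]
  -- squares
  have hsqψ : ∀ x : Heis bar, (ψ (x * x)).b = Quad.nm bar (A x.a) := by
    intro x
    rw [map_mul, sq_b, hA]
    rfl
  have ha : ∀ a, ε (Quad.nm bar (A a)) = ε (Quad.nm bar a) := by
    intro a
    have hz : (s a * s a).a = 0 := sq_a _
    have hzb : (s a * s a).b = Quad.nm bar a := by rw [sq_b, hs]; rfl
    have hψz : (ψ (s a * s a)).a = 0 := hcen _ hz
    have hw : (ψ (s a * s a) * (s a * s a)).b ∈ Z₀ := by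
      apply hmemZ₀
      · rw [mul_a, hψz, hz, add_zero]
      · rw [map_mul, hψZ _ hz]
        have hzc : (s a * s a) ∈ Subgroup.center (Heis bar) := (mem_center_iff hω hTr _).mpr hz
        exact (Subgroup.mem_center_iff.mp hzc _).symm
    rw [mul_b, hψz, zero_mul, add_zero, hsqψ, hs, hzb] at hw
    have h1 := hεZ₀ _ hw
    rw [hε.add] at h1
    calc ε (Quad.nm bar (A a)) = ε (Quad.nm bar (A a)) * (ε (Quad.nm bar a) * ε (Quad.nm bar a)) := by
          rw [hε.sq, mul_one]
      _ = (ε (Quad.nm bar (A a)) * ε (Quad.nm bar a)) * ε (Quad.nm bar a) := by ring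
      _ = ε (Quad.nm bar a) := by rw [h1, one_mul]
  have hb : ∀ a, A a = a → ε (Quad.nm bar a) = 1 := by
    intro a hAa
    have hz : (s a * s a).a = 0 := sq_a _
    have hzb : (s a * s a).b = Quad.nm bar a := by rw [sq_b, hs]; rfl
    apply hεZ₀
    rw [← hzb]
    apply hmemZ₀ _ hz
    apply Heis.ext
    · rw [hcen _ hz, hz]
    · rw [hsqψ, hs, hAa, hzb]
  exact Quad.core hω hTr A hAA ε hε z₀.b hc₁fix hεc₁ ha hb

end Heis

end Cfsg.Agent.Helper19.SU3
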