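import Cfsg.Agent.Helper19.SU3.Struct

set_option autoImplicit false
set_option linter.unusedSectionVars false

/-!
A character-sum argument on the norm form `a ↦ a * bar a` of a finite field of characteristic
two with an involution `bar`: there is no additive involution `A` of `F` preserving the quadratic
form `ε ∘ norm` (for a sign character `ε` nontrivial on the fixed field) whose fixed points are
all singular.  (The norm form is "elliptic".)
-/

namespace Cfsg.Agent.Helper19.SU3

namespace Quad

variable {F : Type*} [Field F] {bar : F →+* F} [BarField F bar]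

/-- the norm -/
def nm (bar : F →+* F) (a : F) : F := a * bar a

/-- the trace form -/
def tf (bar : F →+* F) (a a' : F) : F := a * bar a' + a' * bar a

theorem nm_add (a a' : F) : nm bar (a + a') = nm bar a + nm bar a' + tf bar a a' := by
  simp only [nm, tf, map_add]; ring

theorem tf_add_right (a u v : F) : tf bar a (u + v) = tf bar a u + tf bar a v := by
  simp only [tf, map_add]; ring

theorem tf_add_left (a a' u : F) : tf bar (a + a') u = tf bar a u + tf bar a' u := by
  simp only [tf, map_add]; ring

theorem nm_zero : nm bar 0 = 0 := by simp [nm]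

theorem nm_mul_fixed (m a : F) (hm : bar m = m) : nm bar (m * a) = m * m * nm bar a := by
  simp only [nm, map_mul, hm]; ring

theorem nm_fixed (a : F) : bar (nm bar a) = nm bar a := Heis.norm_fixed a

/-- a sign character of `(F, +)` -/
structure IsSign (ε : F → ℤ) : Prop where
  add : ∀ x y, ε (x + y) = ε x * ε y
  sq : ∀ x, ε x * ε x = 1

namespace IsSign

variable {ε : F → ℤ} (hε : IsSign ε)
include hε

omit [BarField F bar] in
theorem zero : ε 0 = 1 := by
  have h1 := hε.add 0 0
  have h2 := hε.sq 0
  rw [add_zero] at h1
  rw [← h1] at h2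
  exact h2

omit [BarField F bar] in
theorem cancel {x y t t' : ℤ} (hx : x * x = 1) (hy : y * y = 1) (h : x * y * t = x * y * t') :
    t = t' := by
  calc t = (x * x) * (y * y) * t := by rw [hx, hy]; ring
    _ = x * y * (x * y * t) := by ring
    _ = x * y * (x * y * t') := by rw [h]
    _ = (x * x) * (y * y) * t' := by ring
    _ = t' := by rw [hx, hy]; ring

omit [BarField F bar] in
/-- a function negated by a permutation sums to zero -/
theorem sum_eq_zero' {G : Type*} [Fintype G] (η : G → ℤ) (σ : G ≃ G)
    (hσ : ∀ u, η (σ u) = - η u) : ∑ u, η u = 0 := by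
  have h := Fintype.sum_equiv σ (fun u => η (σ u)) η (fun u => rfl)
  have h2 : ∑ u, η (σ u) = - ∑ u, η u := by
    rw [← Finset.sum_neg_distrib]
    exact Finset.sum_congr rfl (fun u _ => hσ u)
  rw [h2] at h
  linarith

omit [BarField F bar] in
/-- a character of a finite group taking the value `-1` sums to zero -/
theorem sum_eq_zero {G : Type*} [AddGroup G] [Fintype G] (η : G → ℤ)
    (hη : ∀ x y, η (x + y) = η x * η y) (u₀ : G) (hu₀ : η u₀ = -1) : ∑ u, η u = 0 := by
  apply sum_eq_zero' hε η (Equiv.addRight u₀)
  intro u
  show η (u + u₀) = - η u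
  rw [hη, hu₀]; ring

end IsSign

section core

variable [Fintype F]

theorem core (hω : ∃ ω : F, bar ω ≠ ω) (hTr : ∀ c : F, bar c = c → ∃ b, b + bar b = c)
    (A : F →+ F) (hAA : ∀ a, A (A a) = a) (ε : F → ℤ) (hε : IsSign ε)
    (c₁ : F) (hc₁ : bar c₁ = c₁) (hεc₁ : ε c₁ = -1)
    (ha : ∀ a, ε (nm bar (A a)) = ε (nm bar a))
    (hb : ∀ a, A a = a → ε (nm bar a) = 1) : False := by
  classical
  -- polarisation
  have hpol : ∀ a a', ε (tf bar (A a) (A a')) = ε (tf bar a a') := by
    intro a a'
    have h1 := ha (a + a')
    rw [map_add, nm_add, nm_add, hε.add, hε.add, hε.add, hε.add, ha, ha] at h1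
    exact hε.cancel (hε.sq _) (hε.sq _) h1
  have hg : ∀ a u, ε (tf bar a (u + A u)) = ε (tf bar (a + A a) u) := by
    intro a u
    rw [tf_add_right, tf_add_left, hε.add, hε.add]
    congr 1
    have := hpol a (A u)
    rw [hAA] at this
    exact this.symm
  -- nondegeneracy
  have hnd : ∀ d : F, d ≠ 0 → ∑ u, ε (tf bar d u) = 0 := by
    intro d hd
    obtain ⟨b₁, hb₁⟩ := hTr c₁ hc₁
    apply hε.sum_eq_zero (fun u => ε (tf bar d u)) (fun x y => by rw [tf_add_right, hε.add])
      (bar b₁ / bar d)
    have hd' : bar d ≠ 0 := by rwa [Ne, map_eq_zero]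
    have : tf bar d (bar b₁ / bar d) = c₁ := by
      simp only [tf, map_div₀, Heis.bb (bar := bar)]
      field_simp
      linear_combination hb₁
    rw [this, hεc₁]
  -- the sum
  set S : ℤ := ∑ a, ε (nm bar a) with hS
  -- first evaluation: `S ≥ 0`
  have h1 : (Fintype.card F : ℤ) * S =
      (Fintype.card F : ℤ) * (Finset.univ.filter (fun a : F => A a = a)).card := by
    have e1 : ∑ u : F, ∑ a : F, ε (nm bar (a + (u + A u))) = (Fintype.card F : ℤ) * S := by
      have : ∀ u : F, ∑ a : F, ε (nm bar (a + (u + A u))) = S := by
        intro u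
        exact Fintype.sum_equiv (Equiv.addRight (u + A u)) _ _ (fun a => rfl)
      rw [Finset.sum_congr rfl (fun u _ => this u), Finset.sum_const, Finset.card_univ]
      simp
    have e2 : ∑ u : F, ∑ a : F, ε (nm bar (a + (u + A u))) =
        ∑ a : F, if A a = a then (Fintype.card F : ℤ) else 0 := by
      rw [Finset.sum_comm]
      apply Finset.sum_congr rfl
      intro a _
      have hfix : ∀ u, ε (nm bar (u + A u)) = 1 := by
        intro u
        apply hb
        rw [map_add, hAA, add_comm]
      have : ∀ u, ε (nm bar (a + (u + A u))) = ε (nm bar a) * ε (tf bar (a + A a) u) := by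
        intro u
        rw [nm_add, hε.add, hε.add, hfix, mul_one, hg]
      rw [Finset.sum_congr rfl (fun u _ => this u), ← Finset.mul_sum]
      by_cases hfa : A a = a
      · rw [if_pos hfa, hb a hfa, one_mul, hfa, Heis.char2 bar a]
        have : ∀ u, ε (tf bar 0 u) = 1 := by
          intro u
          have : tf bar 0 u = 0 := by simp [tf]
          rw [this, hε.zero]
        rw [Finset.sum_congr rfl (fun u _ => this u), Finset.sum_const, Finset.card_univ]
        simp
      · rw [if_neg hfa, hnd, mul_zero]
        intro h0
        apply hfa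
        have := Heis.char2 bar a
        linear_combination h0 - this
    rw [← e1, e2, Finset.sum_ite, Finset.sum_const, Finset.sum_const_zero, add_zero]
    simp [mul_comm]
  have hFpos : (0 : ℤ) < Fintype.card F := by
    have := Fintype.card_pos (α := F)
    exact_mod_cast this
  have hS0 : 0 ≤ S := by
    have : (0 : ℤ) ≤ (Fintype.card F : ℤ) * S := by
      rw [h1]; positivity
    exact nonneg_of_mul_nonneg_right this hFpos
  -- second evaluation
  let F₀ := {c : F // bar c = c}
  have h2 : ((Fintype.card F₀ : ℤ) - 1) * S = (Fintype.card F₀ : ℤ) - Fintype.card F := by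
    have e1 : ∑ m : F₀, ∑ a : F, ε (m.1 * m.1 * nm bar a) =
        ∑ m : F₀, (S + if m.1 = 0 then (Fintype.card F : ℤ) - S else 0) := by
      apply Finset.sum_congr rfl
      intro m _
      by_cases hm : m.1 = 0
      · rw [if_pos hm, hm]
        simp only [mul_zero, zero_mul, hε.zero, Finset.sum_const, Finset.card_univ]
        simp
      · rw [if_neg hm, add_zero]
        have : ∀ a, ε (m.1 * m.1 * nm bar a) = ε (nm bar (m.1 * a)) := by
          intro a; rw [nm_mul_fixed _ _ m.2]
        rw [Finset.sum_congr rfl (fun a _ => this a)]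
        exact Fintype.sum_equiv (Equiv.mulLeft₀ m.1 hm) _ _ (fun a => rfl)
    have e2 : ∑ m : F₀, ∑ a : F, ε (m.1 * m.1 * nm bar a) =
        ∑ a : F, if a = 0 then (Fintype.card F₀ : ℤ) else 0 := by
      rw [Finset.sum_comm]
      apply Finset.sum_congr rfl
      intro a _
      by_cases ha0 : a = 0
      · rw [if_pos ha0, ha0, nm_zero]
        simp only [mul_zero, hε.zero, Finset.sum_const, Finset.card_univ]
        simp
      · rw [if_neg ha0]
        have hn0 : nm bar a ≠ 0 := by
          refine mul_ne_zero ha0 ?_
          rwa [Ne, map_eq_zero]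
        -- the additive bijection `m ↦ m * m * nm a` of the fixed field
        let φ : F₀ → F₀ := fun m => ⟨m.1 * m.1 * nm bar a, by
          rw [map_mul, map_mul, m.2, nm_fixed]⟩
        have hφinj : Function.Injective φ := by
          intro m m' h
          have h1 : m.1 * m.1 * nm bar a = m'.1 * m'.1 * nm bar a := congrArg Subtype.val h
          have h2 : m.1 * m.1 = m'.1 * m'.1 := mul_right_cancel₀ hn0 h1
          have h3 : (m.1 + m'.1) * (m.1 + m'.1) = 0 := by
            have := Heis.char2 bar (m.1 * m'.1)
            linear_combination h2 + this + Heis.char2 bar (m'.1 * m'.1)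
          have h4 : m.1 + m'.1 = 0 := mul_self_eq_zero.mp h3
          apply Subtype.ext
          have := Heis.char2 bar m'.1
          linear_combination h4 - this
        have hφbij : Function.Bijective φ := Finite.injective_iff_bijective.mp hφinj
        have := hφbij.sum_comp (fun c : F₀ => ε c.1)
        rw [show (∑ m : F₀, ε (m.1 * m.1 * nm bar a)) = ∑ m : F₀, ε (φ m).1 from rfl, this]
        have hinv : Function.Involutive (fun c : F₀ => (⟨c.1 + c₁, by rw [map_add, c.2, hc₁]⟩ : F₀)) := by
          intro c
          apply Subtype.ext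
          show c.1 + c₁ + c₁ = c.1
          have := Heis.char2 bar c₁
          linear_combination this
        apply hε.sum_eq_zero' (fun c : F₀ => ε c.1) hinv.toPerm
        intro c
        show ε (c.1 + c₁) = - ε c.1
        rw [hε.add, hεc₁]; ring
    rw [e1, Finset.sum_add_distrib, Finset.sum_const, Finset.card_univ, Finset.sum_ite,
      Finset.sum_const_zero, add_zero, Finset.sum_const] at e2
    have hcard0 : (Finset.univ.filter (fun m : F₀ => m.1 = 0)).card = 1 := by
      rw [Finset.card_eq_one]
      refine ⟨⟨0, map_zero bar⟩, ?_⟩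
      ext m
      simp only [Finset.mem_filter, Finset.mem_univ, true_and, Finset.mem_singleton]
      exact ⟨fun h => Subtype.ext h, fun h => by rw [h]⟩
    rw [hcard0, Finset.sum_ite, Finset.sum_const_zero, add_zero, Finset.sum_const] at e2
    have hcard0' : (Finset.univ.filter (fun a : F => a = 0)).card = 1 := by
      rw [Finset.card_eq_one]
      exact ⟨0, by ext; simp⟩
    rw [hcard0'] at e2
    simp only [nsmul_eq_mul, Nat.cast_one, one_mul] at e2
    linarith
  -- the fixed field is proper
  have hlt : (Fintype.card F₀ : ℤ) < Fintype.card F := by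
    obtain ⟨ω, hω⟩ := hω
    have : Fintype.card F₀ < Fintype.card F := by
      apply Fintype.card_lt_of_injective_of_notMem (fun c : F₀ => c.1) Subtype.val_injective
        (b := ω)
      rintro ⟨c, rfl⟩
      exact hω c.2
    exact_mod_cast this
  have hpos : (1 : ℤ) ≤ Fintype.card F₀ := by
    have : 0 < Fintype.card F₀ := Fintype.card_pos_iff.mpr ⟨⟨0, map_zero bar⟩⟩
    exact_mod_cast this
  have h3 : 0 ≤ ((Fintype.card F₀ : ℤ) - 1) * S := mul_nonneg (by linarith) hS0
  rw [h2] at h3
  linarith

end core

end Quad

end Cfsg.Agent.Helper19.SU3
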