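import Cfsg.Agent.Helper19.SU3.Heis2

set_option autoImplicit false
set_option linter.unusedSectionVars false

/-!
Elementwise structure of `Heis bar`, in a form that is transported along isomorphisms, and its
consequences for the centre, the involutions and the derived subgroup.
-/

namespace Cfsg.Agent.Helper19.SU3

open scoped commutatorElement

/-- the elementwise properties of a "Heisenberg" 2-group with centre of order `q` -/
structure HeisLike (M : Type*) [Group M] (q : ℕ) : Prop where
  card : Nat.card M = q ^ 3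
  card_center : Nat.card (Subgroup.center M) = q
  invol : ∀ x : M, (x ≠ 1 ∧ x * x = 1) ↔ (x ∈ Subgroup.center M ∧ x ≠ 1)
  comm_mem : ∀ x y : M, ⁅x, y⁆ ∈ Subgroup.center M
  comm_surj : ∀ z ∈ Subgroup.center M, ∃ x y : M, ⁅x, y⁆ = z
  sq_mem : ∀ x : M, x * x ∈ Subgroup.center M

namespace Heis

variable {F : Type*} [Field F] {bar : F →+* F} [BarField F bar]

theorem comm_a (x y : Heis bar) : (⁅x, y⁆).a = 0 := by
  rw [commutatorElement_def]
  simp only [mul_a, inv_a]
  linear_combination char2 bar x.a + char2 bar y.a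

theorem comm_b (x y : Heis bar) : (⁅x, y⁆).b = x.a * bar y.a + y.a * bar x.a := by
  rw [commutatorElement_def]
  simp only [mul_a, mul_b, inv_a, inv_b]
  have hx := x.h
  have hy := y.h
  linear_combination hx + hy + char2 bar (x.a * bar x.a) + char2 bar (y.a * bar y.a) +
    char2 bar (y.a * bar x.a) - char2 bar (y.a * bar y.a) + char2 bar (x.a * bar y.a) +
    char2 bar (y.a * bar y.a) - char2 bar (y.a * bar x.a)

theorem heisLike (hω : ∃ ω : F, bar ω ≠ ω) (hTr : ∀ c : F, bar c = c → ∃ b, b + bar b = c)
    {q : ℕ} (hq : Nat.card {c : F // bar c = c} = q) (hF : Nat.card F = q ^ 2) :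
    HeisLike (Heis bar) q := by
  refine ⟨?_, ?_, ?_, ?_, ?_, ?_⟩
  · rw [card_eq hTr, hq, hF]; ring
  · rw [card_center hω hTr, hq]
  · intro x
    rw [invol_iff, mem_center_iff hω hTr, Ne, Ne, eq_one_iff]
    constructor
    · rintro ⟨h1, h2⟩
      exact ⟨h1, fun h => h2 h.2⟩
    · rintro ⟨h1, h2⟩
      exact ⟨h1, fun h => h2 ⟨h1, h⟩⟩
  · intro x y
    rw [mem_center_iff hω hTr]
    exact comm_a x y
  · intro z hz
    rw [mem_center_iff hω hTr] at hz
    have hzh := z.h
    rw [hz] at hzh
    have hfix : bar z.b = z.b := fixed_of_add_eq_zero (by simpa using hzh)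
    obtain ⟨a', ha'⟩ := hTr z.b hfix
    obtain ⟨x, hx⟩ := exists_a (bar := bar) hTr 1
    obtain ⟨y, hy⟩ := exists_a (bar := bar) hTr a'
    refine ⟨x, y, ?_⟩
    ext
    · rw [comm_a, hz]
    · rw [comm_b, hx, hy, map_one]
      linear_combination ha'
  · intro x
    rw [mem_center_iff hω hTr]
    exact sq_a x

end Heis

namespace HeisLike

variable {M N : Type*} [Group M] [Group N] {q : ℕ}

theorem mem_center_congr (e : M ≃* N) (x : M) :
    e x ∈ Subgroup.center N ↔ x ∈ Subgroup.center M := by
  simp only [Subgroup.mem_center_iff]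
  constructor
  · intro h y
    have := h (e y)
    apply e.injective
    simpa using this
  · intro h y
    have := h (e.symm y)
    have h2 := congrArg e this
    simpa using h2

theorem mem_center_congr' (e : M ≃* N) (x : N) :
    e.symm x ∈ Subgroup.center M ↔ x ∈ Subgroup.center N := by
  rw [← mem_center_congr e, MulEquiv.apply_symm_apply]

/-- transport along an isomorphism -/
theorem congr (h : HeisLike M q) (e : M ≃* N) : HeisLike N q := by
  refine ⟨?_, ?_, ?_, ?_, ?_, ?_⟩
  · rw [← Nat.card_congr e.toEquiv, h.card]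
  · rw [← h.card_center]
    exact (Nat.card_congr (e.toEquiv.subtypeEquiv (fun x => (mem_center_congr e x).symm))).symm
  · intro x
    have h1 := h.invol (e.symm x)
    rw [mem_center_congr'] at h1
    have h2 : e.symm x = 1 ↔ x = 1 := by
      rw [← map_one e.symm]; exact e.symm.injective.eq_iff
    have h3 : e.symm x * e.symm x = 1 ↔ x * x = 1 := by
      rw [← map_mul, ← map_one e.symm]; exact e.symm.injective.eq_iff
    rw [Ne, h2, h3] at h1
    exact h1
  · intro x y
    have h1 := h.comm_mem (e.symm x) (e.symm y)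
    rw [← map_commutatorElement, mem_center_congr'] at h1
    exact h1
  · intro z hz
    obtain ⟨x, y, hxy⟩ := h.comm_surj (e.symm z) ((mem_center_congr' e z).mpr hz)
    refine ⟨e x, e y, ?_⟩
    rw [← map_commutatorElement, hxy, MulEquiv.apply_symm_apply]
  · intro x
    have h1 := h.sq_mem (e.symm x)
    rw [← map_mul, mem_center_congr'] at h1
    exact h1

variable (h : HeisLike M q)
include h

theorem orderOf_eq_two_iff (x : M) : orderOf x = 2 ↔ (x ∈ Subgroup.center M ∧ x ≠ 1) := by
  have : Fact (Nat.Prime 2) := ⟨Nat.prime_two⟩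
  rw [orderOf_eq_prime_iff, ← h.invol x, pow_two]
  exact and_comm

theorem center_eq_closure :
    Subgroup.center M = Subgroup.closure {x : M | orderOf x = 2} := by
  apply le_antisymm
  · intro z hz
    by_cases hz1 : z = 1
    · rw [hz1]; exact one_mem _
    · exact Subgroup.subset_closure ((h.orderOf_eq_two_iff z).mpr ⟨hz, hz1⟩)
  · rw [Subgroup.closure_le]
    intro x hx
    exact ((h.orderOf_eq_two_iff x).mp hx).1

theorem center_eq_commutator : Subgroup.center M = commutator M := by
  apply le_antisymm
  · intro z hz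
    obtain ⟨x, y, rfl⟩ := h.comm_surj z hz
    exact Subgroup.commutator_mem_commutator (Subgroup.mem_top x) (Subgroup.mem_top y)
  · rw [commutator, Subgroup.commutator_le]
    intro x _ y _
    exact h.comm_mem x y

theorem card_quotient (hq : 0 < q) : Nat.card (M ⧸ Subgroup.center M) = q ^ 2 := by
  have h1 := Subgroup.card_eq_card_quotient_mul_card_subgroup (Subgroup.center M)
  rw [h.card, h.card_center] at h1
  have h2 : q ^ 2 * q = Nat.card (M ⧸ Subgroup.center M) * q := by rw [← h1]; ring
  exact (Nat.eq_of_mul_eq_mul_right hq h2).symm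

theorem quotient_sq (x : M ⧸ Subgroup.center M) : x ^ 2 = 1 := by
  induction x using QuotientGroup.induction_on with
  | H x =>
    rw [← QuotientGroup.mk_pow, QuotientGroup.eq_one_iff, pow_two]
    exact h.sq_mem x

theorem center_sq (z : Subgroup.center M) : z * z = 1 := by
  by_cases hz : z = 1
  · rw [hz, mul_one]
  · have h1 := (h.invol z.1).mpr ⟨z.2, fun h => hz (Subtype.ext h)⟩
    exact Subtype.ext h1.2

omit h in
theorem isKleinFour_center (h : HeisLike M 4) : IsKleinFour (Subgroup.center M) := by
  refine ⟨h.card_center, ?_⟩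
  have : Nontrivial (Subgroup.center M) := by
    have : 1 < Nat.card (Subgroup.center M) := by rw [h.card_center]; norm_num
    have hfin : Finite (Subgroup.center M) := Nat.finite_of_card_ne_zero (by omega)
    exact Finite.one_lt_card_iff_nontrivial.mp this
  rw [Monoid.exponent_eq_prime_iff Nat.prime_two]
  intro z hz
  have : Fact (Nat.Prime 2) := ⟨Nat.prime_two⟩
  rw [orderOf_eq_prime_iff, pow_two]
  exact ⟨h.center_sq z, hz⟩

end HeisLike

end Cfsg.Agent.Helper19.SU3
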